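import Cfsg.Agent.Fusion.Saturation

/-!
# Descending induction on the source of a map

* `isSubsystemOf_of_aut`: a saturated `F` is contained in a system `E` as soon as, for each fully
  normalised `P`, all automorphisms of `P` in `F` are in `E` whenever all maps on bigger sources are.
* `aut_mem_of_moves`: the extension step through a receptive subgroup.
* `aut_mem_of_normal_pgroup`, `aut_mem_of_normal`: the two Frattini-type steps.
-/

set_option autoImplicit false
set_option linter.style.haveILetI false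

namespace CfsgLib.FusionAgemo

open Cfsg Cfsg.FusionSystem CfsgLib.Fusion

variable {Ω : Type*} [Group Ω] {S T : Subgroup Ω} {F : FusionSystem S} {E : FusionSystem T}
variable {P Q : Subgroup Ω} {p : ℕ}

/-- All maps of `F` whose source is larger than `P` are maps of `E`. -/
def MemAbove (F : FusionSystem S) (E : FusionSystem T) (P : Subgroup Ω) : Prop :=
  ∀ (R : Subgroup Ω), Nat.card P < Nat.card R → ∀ φ ∈ F.Hom R, φ ∈ E.Hom R

theorem card_lt_normalizerIn [Finite S] [Fact p.Prime] (hS : IsPGroup p S) (hP : P ≤ S)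
    (hne : P ≠ S) : Nat.card P < Nat.card (normalizerIn S P) := by
  haveI := finite_of_le (normalizerIn_le S P)
  have h := lt_normalizerIn hS (lt_of_le_of_ne hP hne)
  by_contra hc
  exact h.ne (Subgroup.eq_of_le_of_card_ge h.le (not_lt.1 hc))

theorem isSubsystemOf_of_aut [Finite S] [Fact p.Prime] (hS : IsPGroup p S) (hF : F.IsSaturated p)
    (hstep : ∀ P : Subgroup Ω, F.IsFullyNormalized P → MemAbove F E P →
      ∀ α ∈ F.autGroup P, IsIso E α) : F.IsSubsystemOf E := by
  suffices h : ∀ (d : ℕ) (P : Subgroup Ω), Nat.card S - Nat.card P ≤ d →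
      ∀ φ ∈ F.Hom P, φ ∈ E.Hom P from fun P φ hφ => h _ P le_rfl φ hφ
  intro d
  induction d using Nat.strong_induction_on with
  | _ d ih =>
    intro P hd φ hφ
    have hPS : P ≤ S := le_left hφ
    have habove : ∀ P' : Subgroup Ω, P' ≤ S → Nat.card P' = Nat.card P → MemAbove F E P' := by
      intro P' _ hc R hR ψ hψ
      have hRS : Nat.card R ≤ Nat.card S := Subgroup.card_le_of_le (le_left hψ)
      exact ih (Nat.card S - Nat.card R) (by omega) R le_rfl ψ hψ
    obtain ⟨e, he, heφ⟩ := exists_iso_range hφ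
    suffices hsuf : IsIso E e from mem_congr hsuf fun x => (heφ x).symm
    by_cases hPeq : P = S
    · subst hPeq
      have hr : φ.range = P := eq_S_of_isConj he.isConj
      obtain ⟨α, hα, hαφ⟩ := exists_iso hφ hr
      exact mem_congr (hstep P isFullyNormalized_self (habove P le_rfl rfl) α hα.mem_autGroup)
        fun x => (heφ x).trans (hαφ x).symm
    obtain ⟨Q, hPQ, hQ⟩ := exists_fullyNormalized (F := F) hPS
    obtain ⟨hQa, hQr⟩ := automized_receptive hS hF hQ
    have key : ∀ R : Subgroup Ω, R ≤ S → Nat.card R = Nat.card P → F.IsConj R Q →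
        ∃ f : R ≃* Q, IsIso F f ∧ IsIso E f := by
      intro R hR hc hRQ
      obtain ⟨ψ, hψ, -, himg⟩ := exists_map_normalizerIn hS hQa hQr hRQ
      have hne : R ≠ S := fun h => hPeq (Subgroup.eq_of_le_of_card_ge hPS (by rw [← h, hc]))
      have hψE : ψ ∈ E.Hom (normalizerIn S R) :=
        habove R hR hc _ (card_lt_normalizerIn hS hR hne) ψ hψ
      obtain ⟨f, hf, hfv⟩ := exists_iso (restrict_mem hψ (le_normalizerIn hR))
        ((range_restrictHom ψ _).trans himg)
      exact ⟨f, hf, mem_congr (restrict_mem hψE (le_normalizerIn hR)) fun x => hfv x⟩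
    obtain ⟨a, haF, haE⟩ := key P hPS rfl hPQ
    obtain ⟨b, hbF, hbE⟩ := key φ.range he.le_right he.card_eq.symm
      (isConj_trans (isConj_symm he.isConj) hPQ)
    have hαF : IsIso F (a.symm.trans (e.trans b)) := haF.symm.trans (he.trans hbF)
    have hαE : IsIso E (a.symm.trans (e.trans b)) :=
      hstep Q hQ (habove Q hQ.1 (card_eq_of_isConj hPQ).symm) _ hαF.mem_autGroup
    have := (haE.trans hαE).trans hbE.symm
    exact mem_congr this fun x => by simp

/-- An automorphism carrying the action of some `g ∈ N_S(P) \ P` into `Aut_S(P)` extends to a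
larger subgroup. -/
theorem aut_mem_of_moves [Finite S] (hPr : F.IsReceptive P) (habove : MemAbove F E P)
    {α : MulAut P} (hα : α ∈ F.autGroup P) {g : Ω} (hg : g ∈ normalizerIn S P) (hgP : g ∉ P)
    {c : MulAut P} (hc : ∀ x : P, (c x : Ω) = g * x * g⁻¹)
    (hmove : α * c * α⁻¹ ∈ autInducedBy S P) : IsIso E α := by
  have hiso : IsIso F α := (mem_autGroup_iff hPr.1).1 hα
  rw [← congr_self_eq] at hmove
  have hgext := mem_extender_of_congr (e := α) hg hc hmove
  have hPext : P ≤ extender S P (P.subtype.comp α.toMonoidHom) :=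
    le_extender hPr.1 (F.le_of_mem hiso).2
  obtain ⟨ψ, hψ, hv⟩ := exists_extension hPr hiso
    (le_refl (extender S P (P.subtype.comp α.toMonoidHom)))
  haveI := finite_of_le ((extender_le_normalizerIn (P := P) (S := S)
    (P.subtype.comp α.toMonoidHom)).trans inf_le_left)
  have hlt : Nat.card P < Nat.card (extender S P (P.subtype.comp α.toMonoidHom)) := by
    by_contra h
    exact hgP (Subgroup.eq_of_le_of_card_ge hPext (not_lt.1 h) ▸ hgext)
  exact mem_of_agree (habove _ hlt ψ hψ) hPext fun x => (hv x (hPext x.2)).symm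

/-- If a normal `p`-subgroup of `Aut_F(P)` contains the action of some `g ∈ N_S(P) \ P`, all
automorphisms of `P` extend. -/
theorem aut_mem_of_normal_pgroup [Finite S] [Fact p.Prime] (hPa : F.IsFullyAutomized p P)
    (hPr : F.IsReceptive P) (habove : MemAbove F E P)
    (K : Subgroup (F.autGroup P)) (hKn : K.Normal) (hKp : IsPGroup p K)
    {g : Ω} (hg : g ∈ normalizerIn S P) (hgP : g ∉ P) {c : F.autGroup P} (hcK : c ∈ K)
    (hc : ∀ x : P, ((c : MulAut P) x : Ω) = g * x * g⁻¹) :
    ∀ α ∈ F.autGroup P, IsIso E α := by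
  intro α hα
  haveI := finite_of_le hPr.1
  obtain ⟨T', hT'⟩ := hPa.2
  refine aut_mem_of_moves hPr habove hα hg hgP hc ?_
  obtain ⟨a, ha⟩ := exists_conj_mem_sylow T' hKp
  have h1 : a⁻¹ * (⟨α, hα⟩ * c * ⟨α, hα⟩⁻¹) * a ∈ K := by
    simpa using hKn.conj_mem _ (hKn.conj_mem c hcK ⟨α, hα⟩) a⁻¹
  have h2 := ha _ h1
  rw [hT'] at h2
  simpa [mul_assoc] using Subgroup.mem_subgroupOf.1 h2

/-- If the elements of a normal subgroup `K` of `Aut_F(P)` are in `E` and `K` contains the action
of some `g ∈ N_S(P) \ P`, all automorphisms of `P` are in `E`. -/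
theorem aut_mem_of_normal [Finite S] [Fact p.Prime] (hS : IsPGroup p S)
    (hPa : F.IsFullyAutomized p P) (hPr : F.IsReceptive P) (habove : MemAbove F E P)
    (K : Subgroup (F.autGroup P)) (hKn : K.Normal)
    (hKE : ∀ k ∈ K, IsIso E ((k : F.autGroup P) : MulAut P))
    {g : Ω} (hg : g ∈ normalizerIn S P) (hgP : g ∉ P) {c : F.autGroup P} (hcK : c ∈ K)
    (hc : ∀ x : P, ((c : MulAut P) x : Ω) = g * x * g⁻¹) :
    ∀ α ∈ F.autGroup P, IsIso E α := by
  intro α hα
  haveI := finite_of_le hPr.1
  obtain ⟨T', hT'⟩ := hPa.2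
  let U : Subgroup K := ((autInducedBy S P).subgroupOf (F.autGroup P)).subgroupOf K
  have hUp : IsPGroup p U :=
    ((isPGroup_autInducedBy hS P).comap_of_injective _ (Subgroup.subtype_injective _)).comap_of_injective _
      (Subgroup.subtype_injective _)
  obtain ⟨R, hR⟩ := hUp.exists_le_sylow
  have hUR : U = R := by
    refine le_antisymm hR ?_
    obtain ⟨a, ha⟩ := exists_conj_mem_sylow T' (R.isPGroup'.map K.subtype)
    have hmem : ∀ r : R, a * ((r : K) : F.autGroup P) * a⁻¹ ∈ K := fun r =>
      hKn.conj_mem _ (r : K).2 a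
    have hcard : Nat.card R ≤ Nat.card U := by
      refine Nat.card_le_card_of_injective (fun r : R => (⟨⟨_, hmem r⟩,
        Subgroup.mem_subgroupOf.2 (hT' ▸ ha _ ⟨r, r.2, rfl⟩)⟩ : U)) fun r s hrs => ?_
      have h := congrArg (fun z : U => ((z : K) : F.autGroup P)) hrs
      exact Subtype.ext (Subtype.ext (mul_left_cancel (mul_right_cancel h)))
    exact (Subgroup.eq_of_le_of_card_ge hR hcard).ge
  let a : F.autGroup P := ⟨α, hα⟩
  haveI := hKn
  -- move the conjugate of `U` back to `U` by an element of `K`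
  let conjK : K ≃* K := MulAut.conjNormal a
  obtain ⟨k, hk⟩ := MulAction.exists_smul_eq K (R.mapSurjective (f := conjK.toMonoidHom)
    conjK.surjective) R
  have hn : ∀ x : K, x ∈ U → (k * conjK x * k⁻¹) ∈ U := by
    intro x hx
    rw [hUR] at hx ⊢
    have h : k * conjK x * k⁻¹ ∈
        ((k • R.mapSurjective (f := conjK.toMonoidHom) conjK.surjective : Sylow p K) : Subgroup K) := by
      rw [Sylow.coe_subgroup_smul]
      exact ⟨conjK x, ⟨x, hx, rfl⟩, rfl⟩
    rwa [hk] at h
  have hcU : (⟨c, hcK⟩ : K) ∈ U :=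
    Subgroup.mem_subgroupOf.2 (Subgroup.mem_subgroupOf.2
      (mem_autInducedBy_iff.2 ⟨g, hg.1, hg.2, hc⟩))
  have hmove := Subgroup.mem_subgroupOf.1 (Subgroup.mem_subgroupOf.1 (hn _ hcU))
  have hka : IsIso E ((((k : F.autGroup P) * a : F.autGroup P)) : MulAut P) := by
    refine aut_mem_of_moves hPr habove (((k : F.autGroup P) * a).2) hg hgP hc ?_
    simpa [conjK, MulAut.conjNormal_apply, mul_assoc] using hmove
  have hkE : IsIso E (((k : F.autGroup P) : MulAut P)) := hKE _ k.2
  have h := hka.trans hkE.symm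
  exact mem_congr h fun x => by simp [a]

end CfsgLib.FusionAgemo
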