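import Cfsg.Agent.FusionAgemo.Unipotent
import Mathlib.GroupTheory.Nilpotent
import Mathlib.Algebra.Group.End

/-!
# An automorphism of period `p` that is unipotent of small degree fixes the `p ^ n`-th powers

`apply_pow_eq_of_unipotent` (abelian group form) and `conj_pow_eq_of_class` (an element of a
group of small nilpotency class acting on a normalised abelian subgroup).
-/

set_option autoImplicit false
set_option linter.style.haveILetI false

namespace CfsgLib.FusionAgemo

open scoped commutatorElement

/-- The map `w ↦ u(w) w⁻¹` of a commutative group. -/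
def deltaHom {A : Type*} [CommGroup A] (u : A →* A) : A →* A where
  toFun w := u w * w⁻¹
  map_one' := by simp
  map_mul' a b := by simp [mul_inv_rev, mul_comm, mul_left_comm]; ac_rfl

theorem apply_pow_eq_of_unipotent {A : Type*} [CommGroup A] {p : ℕ} [Fact p.Prime] (n : ℕ)
    (u : A →* A) (hup : ∀ w, u^[p] w = w)
    (hn : ∀ w, (deltaHom u)^[n * (p - 1) + 1] w = 1) (w : A) :
    u (w ^ (p ^ n)) = w ^ (p ^ n) := by
  let U : AddMonoid.End (Additive A) := MonoidHom.toAdditive u
  have hU : ∀ (k : ℕ) (a : A), (U ^ k) (Additive.ofMul a) = Additive.ofMul (u^[k] a) := by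
    intro k
    induction k with
    | zero => intro a; rfl
    | succ k ih =>
      intro a
      rw [pow_succ', Function.iterate_succ_apply']
      show U ((U ^ k) (Additive.ofMul a)) = _
      rw [ih]
      rfl
  have hD : ∀ (k : ℕ) (a : A),
      ((U - 1) ^ k) (Additive.ofMul a) = Additive.ofMul ((deltaHom u)^[k] a) := by
    intro k
    induction k with
    | zero => intro a; rfl
    | succ k ih =>
      intro a
      rw [pow_succ', Function.iterate_succ_apply']
      show (U - 1) (((U - 1) ^ k) (Additive.ofMul a)) = _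
      rw [ih]
      show U (Additive.ofMul _) - Additive.ofMul _ = _
      rw [← pow_one U, hU]
      show Additive.ofMul (_ / _) = _
      rw [div_eq_mul_inv]
      rfl
  have h := natCast_pow_mul_sub_one_eq_zero p n U
    (AddMonoidHom.ext fun a => (hU p a.toMul).trans (congrArg Additive.ofMul (hup _)))
    (AddMonoidHom.ext fun a => (hD _ a.toMul).trans (congrArg Additive.ofMul (hn _)))
  have h1 : ((p : AddMonoid.End (Additive A)) ^ n) ((U - 1) (Additive.ofMul w)) = 0 :=
    congrArg (fun f : AddMonoid.End (Additive A) => f (Additive.ofMul w)) h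
  rw [← Nat.cast_pow, AddMonoid.End.natCast_apply] at h1
  have h2 : (p ^ n) • (U (Additive.ofMul w) - Additive.ofMul w) = 0 := h1
  rw [nsmul_sub, sub_eq_zero, ← pow_one U, hU, Function.iterate_one, ← ofMul_pow, ← ofMul_pow] at h2
  rw [map_pow]
  exact Additive.ofMul.injective h2

/-- An element `g` of `S` normalising an abelian `A ≤ S`, with `g ^ p` centralising `A`, centralises
the `p ^ n`-th powers of `A` if `S` has class at most `n (p - 1) + 1`. -/
theorem conj_pow_eq_of_class {Ω : Type*} [Group Ω] {p : ℕ} [Fact p.Prime] (n : ℕ)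
    {S A : Subgroup Ω} [IsMulCommutative A] (hAS : A ≤ S)
    (hcl : Subgroup.lowerCentralSeries S (n * (p - 1) + 1) = ⊥) {g : Ω} (hg : g ∈ S)
    (hA : ∀ a ∈ A, g * a * g⁻¹ ∈ A) (hgp : ∀ a ∈ A, g ^ p * a * (g ^ p)⁻¹ = a) {a : Ω}
    (ha : a ∈ A) : g * a ^ (p ^ n) * g⁻¹ = a ^ (p ^ n) := by
  letI : CommGroup A := { (inferInstance : Group A) with mul_comm := fun x y => mul_comm' x y }
  let u : A →* A :=
    MonoidHom.mk' (fun x => ⟨g * (x : Ω) * g⁻¹, hA x x.2⟩) fun x y => Subtype.ext (by simp)
  have hu : ∀ (k : ℕ) (x : A), ((u^[k] x : A) : Ω) = g ^ k * x * (g ^ k)⁻¹ := by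
    intro k
    induction k with
    | zero => intro x; simp
    | succ k ih =>
      intro x
      rw [Function.iterate_succ_apply']
      show g * ((u^[k] x : A) : Ω) * g⁻¹ = _
      rw [ih, pow_succ']
      group
  have hd : ∀ (k : ℕ) (x : A), (((deltaHom u)^[k] x : A) : Ω) ∈ Subgroup.lowerCentralSeries S k := by
    intro k
    induction k with
    | zero => intro x; exact hAS x.2
    | succ k ih =>
      intro x
      rw [Function.iterate_succ_apply', Subgroup.lowerCentralSeries_succ, Subgroup.commutator_comm]
      exact Subgroup.commutator_mem_commutator hg (ih x)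
  have h := apply_pow_eq_of_unipotent n u
    (fun x => Subtype.ext ((hu p x).trans (hgp x x.2)))
    (fun x => Subtype.ext (Subgroup.mem_bot.1 (hcl ▸ hd (n * (p - 1) + 1) x))) (⟨a, ha⟩ : A)
  simpa [u] using congrArg (fun z : A => (z : Ω)) h

/-- In a `p`-group, some element outside `P` has its `p`-th power in `P`. -/
theorem exists_pow_mem_not_mem {G : Type*} [Group G] {p : ℕ} {N P : Subgroup G}
    (hN : IsPGroup p N) {g : G} (hgN : g ∈ N) (hgP : g ∉ P) :
    ∃ h ∈ N, h ∉ P ∧ h ^ p ∈ P := by
  obtain ⟨k, hk⟩ := hN ⟨g, hgN⟩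
  have hk' : g ^ (p ^ k) ∈ P := by
    have := congrArg Subtype.val hk
    simp only [SubmonoidClass.coe_pow, OneMemClass.coe_one] at this
    rw [this]; exact one_mem _
  induction k generalizing g with
  | zero => exact absurd (by simpa using hk') hgP
  | succ k ih =>
    by_cases h : g ^ p ∈ P
    · exact ⟨g, hgN, hgP, h⟩
    · refine ih (N.pow_mem hgN p) h ?_ ?_
      · apply Subtype.ext
        have := congrArg Subtype.val hk
        simpa [pow_succ', pow_mul] using this
      · rwa [← pow_mul, ← pow_succ']

end CfsgLib.FusionAgemo
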