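import Cfsg.Agent.FusionAgemo.Induction
import Cfsg.Agent.FusionAgemo.PowerFix
import Cfsg.Agent.FusionPStable.NormalizerSystem
import Cfsg.Prelude.Def_PLocal

/-!
# `℧ⁿ(Z(S))` is normal when `S` has class at most `n (p - 1) + 1`
-/

set_option autoImplicit false
set_option linter.style.haveILetI false

namespace CfsgLib.FusionAgemo

open Cfsg Cfsg.FusionSystem CfsgLib.Fusion CfsgLib.FusionPStable

variable {Ω : Type*} [Group Ω] {S : Subgroup Ω} {F : FusionSystem S} {P W : Subgroup Ω} {p : ℕ}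

/-- An automorphism of `P ≥ W` preserving `W` is a map of the normalizer system of `W ⊴ S`. -/
theorem isIso_normalizerSystem (hWS : W ≤ S) (hS : ∀ g ∈ S, g ∈ Subgroup.normalizer (W : Set Ω))
    (hP : P ≤ S) (hWP : W ≤ P) {α : MulAut P} (hα : α ∈ F.autGroup P)
    (h : ∀ x : P, ((α x : P) : Ω) ∈ W ↔ (x : Ω) ∈ W) :
    IsIso (normalizerSystemOf F W hWS) α := by
  have hiso : IsIso F α := (mem_autGroup_iff hP).1 hα
  refine ⟨hiso, fun x hx => ⟨hP hx, hS x (hP hx)⟩,
    fun x => ⟨hP (α x).2, hS _ (hP (α x).2)⟩,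
    (P.subtype.comp α.toMonoidHom).comp (Subgroup.inclusion (sup_le le_rfl hWP)),
    mem_of_eq (sup_eq_left.2 hWP) hiso (fun x hx => rfl), fun x => rfl, ?_⟩
  ext y
  constructor
  · rintro ⟨x, hx, rfl⟩
    exact (h ⟨x, sup_le le_rfl hWP x.2⟩).2 hx
  · intro hy
    refine ⟨⟨α.symm ⟨y, hWP hy⟩, Subgroup.mem_sup_left (α.symm _).2⟩, ?_, ?_⟩
    · exact (h _).1 (by simpa using hy)
    · show ((α (α.symm ⟨y, hWP hy⟩) : P) : Ω) = y
      rw [MulEquiv.apply_symm_apply]

/-- `Z(S)`, as a subgroup of the ambient group. -/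
abbrev zS (S : Subgroup Ω) : Subgroup Ω := S ⊓ Subgroup.centralizer (S : Set Ω)

theorem mem_zS {x : Ω} : x ∈ zS S ↔ x ∈ S ∧ ∀ s ∈ S, s * x = x * s := by
  rw [Subgroup.mem_inf, Subgroup.mem_centralizer_iff]; rfl

theorem powerClosure_le_zS (p n : ℕ) : powerClosure p n (zS S) ≤ zS S := by
  rw [powerClosure, Subgroup.closure_le]
  rintro _ ⟨x, hx, rfl⟩
  exact pow_mem hx _

theorem agemo_center_isNormal [Finite S] [Fact p.Prime] (hS : IsPGroup p S)
    (hF : F.IsSaturated p) (n : ℕ)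
    (hcl : Subgroup.lowerCentralSeries S (n * (p - 1) + 1) = ⊥) :
    F.IsNormal (powerClosure p n (zS S)) := by
  set W := powerClosure p n (zS S) with hW
  have hWz : W ≤ zS S := powerClosure_le_zS p n
  have hWS : W ≤ S := hWz.trans inf_le_left
  have hnorm : ∀ g ∈ S, g ∈ Subgroup.normalizer (W : Set Ω) := by
    intro g hg
    refine Subgroup.mem_normalizer_iff.2 fun x => ?_
    have hfix : ∀ w ∈ W, ∀ k ∈ S, k * w * k⁻¹ = w := fun w hw k hk => by
      rw [(mem_zS.1 (hWz hw)).2 k hk, mul_inv_cancel_right]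
    refine ⟨fun hx => by rwa [hfix x hx g hg], fun hx => ?_⟩
    have h := hfix _ hx g⁻¹ (inv_mem hg)
    simp only [inv_inv, mul_assoc, inv_mul_cancel_left, inv_mul_cancel, mul_one] at h
    rw [h]
    simpa [mul_assoc] using hx
  suffices hsub : F.IsSubsystemOf (normalizerSystemOf F W hWS) by
    exact ⟨hWS, fun P φ hφ => (hsub P hφ).2.2.2⟩
  refine isSubsystemOf_of_aut hS hF fun P hP habove α hα => ?_
  have hPS := hP.1
  by_cases hPeq : P = S
  · subst hPeq
    refine isIso_normalizerSystem hWS hnorm le_rfl hWS hα fun x => ?_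
    have hmap : ∀ β : MulAut P, ∀ x : P, (x : Ω) ∈ W → ((β x : P) : Ω) ∈ W := by
      intro β
      have hle : W ≤ (W.comap (P.subtype.comp β.toMonoidHom)).map P.subtype := by
        rw [hW, powerClosure, Subgroup.closure_le]
        rintro _ ⟨z, hz, rfl⟩
        refine ⟨⟨z, hz.1⟩ ^ (p ^ n), ?_, rfl⟩
        rw [SetLike.mem_coe, Subgroup.mem_comap]
        show (((β (⟨z, hz.1⟩ ^ (p ^ n)) : P)) : Ω) ∈ _
        rw [map_pow, SubmonoidClass.coe_pow]
        refine Subgroup.subset_closure ⟨_, mem_zS.2 ⟨(β ⟨z, hz.1⟩).2, fun s hs => ?_⟩, rfl⟩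
        obtain ⟨t, ht⟩ := β.surjective ⟨s, hs⟩
        have hst := congrArg β (show t * ⟨z, hz.1⟩ = ⟨z, hz.1⟩ * t from
          Subtype.ext ((mem_zS.1 hz).2 t t.2))
        rw [map_mul, map_mul, ht] at hst
        exact congrArg Subtype.val hst
      intro x hx
      obtain ⟨y, hy, hyx⟩ := hle hx
      rwa [← Subtype.ext hyx]
    refine ⟨fun hx => ?_, hmap α x⟩
    simpa using hmap α.symm _ hx
  obtain ⟨hPa, hPr⟩ := automized_receptive hS hF hP
  by_cases hcen : centralizerIn S P ≤ P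
  swap
  · obtain ⟨g, hg, hgP⟩ := SetLike.not_le_iff_exists.1 hcen
    refine aut_mem_of_moves hPr habove hα (centralizerIn_le_normalizerIn S P hg) hgP (c := 1)
      (fun x => ((mem_centralizerIn'.1 hg).2 x x.2).symm) ?_
    simp
  have hzP : zS S ≤ P := fun z hz => hcen (mem_centralizerIn.2
    ⟨hz.1, fun x hx => (mem_zS.1 hz).2 x (hPS hx)⟩)
  have hWP : W ≤ P := hWz.trans hzP
  let K : Subgroup (F.autGroup P) :=
    { carrier := {k | ∀ z : P, z ∈ Subgroup.center P →
        (k : MulAut P) (z ^ (p ^ n)) = z ^ (p ^ n)}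
      one_mem' := fun z _ => rfl
      mul_mem' := fun {a b} ha hb z hz => by
        show (a : MulAut P) ((b : MulAut P) (z ^ (p ^ n))) = _
        rw [hb z hz, ha z hz]
      inv_mem' := fun {a} ha z hz => by
        show (a : MulAut P).symm (z ^ (p ^ n)) = _
        rw [MulEquiv.symm_apply_eq, ha z hz] }
  have hKn : K.Normal := ⟨fun k hk a z hz => by
    have hzc : ((a : MulAut P).symm z) ∈ Subgroup.center P := by
      have := Subgroup.Characteristic.fixed (H := Subgroup.center P) inferInstance (a : MulAut P).symm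
      rw [← this] at hz
      exact hz
    have h := hk _ hzc
    show (a : MulAut P) ((k : MulAut P) ((a : MulAut P).symm (z ^ (p ^ n)))) = _
    rw [map_pow, h, ← map_pow, MulEquiv.apply_symm_apply]⟩
  have hKE : ∀ k ∈ K, IsIso (normalizerSystemOf F W hWS) ((k : F.autGroup P) : MulAut P) := by
    intro k hk
    have hfix : ∀ x : P, (x : Ω) ∈ W → ((k : F.autGroup P) : MulAut P) x = x := by
      intro x hx
      have hle : W ≤ (MonoidHom.eqLocus ((k : F.autGroup P) : MulAut P).toMonoidHom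
          (MonoidHom.id P)).map P.subtype := by
        rw [hW, powerClosure, Subgroup.closure_le]
        rintro _ ⟨z, hz, rfl⟩
        refine ⟨⟨z, hzP hz⟩ ^ (p ^ n), ?_, rfl⟩
        exact hk _ (Subgroup.mem_center_iff.2 fun g => Subtype.ext ((mem_zS.1 hz).2 g (hPS g.2)))
      obtain ⟨y, hy, hyx⟩ := hle hx
      rw [← Subtype.ext hyx]
      exact hy
    refine isIso_normalizerSystem hWS hnorm hPS hWP k.2 fun x => ⟨fun hx => ?_, fun hx => ?_⟩
    · have := hfix _ hx
      rw [((k : F.autGroup P) : MulAut P).injective this] at hx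
      exact hx
    · rw [hfix x hx]; exact hx
  obtain ⟨g₀, hg₀, hg₀P⟩ := SetLike.exists_of_lt (lt_normalizerIn hS (lt_of_le_of_ne hPS hPeq))
  obtain ⟨g, hg, hgP, hgp⟩ := exists_pow_mem_not_mem (p := p) (N := normalizerIn S P)
    (hS.to_le (normalizerIn_le S P)) hg₀ hg₀P
  let cm : MulAut P := P.normalizerMonoidHom ⟨g, hg.2⟩
  have hcm : cm ∈ F.autGroup P :=
    autInducedBy_le_autGroup hPS (mem_autInducedBy_iff.2 ⟨g, hg.1, hg.2, fun x => rfl⟩)
  refine aut_mem_of_normal hS hPa hPr habove K hKn hKE hg hgP (c := ⟨cm, hcm⟩) ?_ (fun x => rfl) α hα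
  intro z hz
  refine Subtype.ext ?_
  show g * ((z ^ (p ^ n) : P) : Ω) * g⁻¹ = ((z ^ (p ^ n) : P) : Ω)
  rw [SubmonoidClass.coe_pow]
  haveI : IsMulCommutative ((Subgroup.center P).map P.subtype) := inferInstance
  refine conj_pow_eq_of_class (A := (Subgroup.center P).map P.subtype) n ?_ hcl hg.1 ?_ ?_ ⟨z, hz, rfl⟩
  · rintro _ ⟨w, -, rfl⟩
    exact hPS w.2
  · rintro _ ⟨w, hw, rfl⟩
    have hfix := Subgroup.Characteristic.fixed (H := Subgroup.center P) inferInstance cm
    rw [← hfix] at hw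
    exact ⟨cm w, hw, rfl⟩
  · rintro _ ⟨w, hw, rfl⟩
    have := congrArg Subtype.val (Subgroup.mem_center_iff.1 hw ⟨g ^ p, hgp⟩)
    simp only [Subgroup.coe_mul] at this
    rw [mul_inv_eq_iff_eq_mul]
    exact this

end CfsgLib.FusionAgemo
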