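import Mathlib.GroupTheory.Nilpotent
import Mathlib.GroupTheory.Exponent

/-!
# The exponent of a nilpotent group from that of its centre
-/

set_option autoImplicit false

namespace CfsgLib.FusionAgemo

open scoped commutatorElement

theorem pow_mem_upperCentralSeries {G : Type*} [Group G] {m : ℕ}
    (hZ : ∀ z ∈ Subgroup.center G, z ^ m = 1) :
    ∀ (i : ℕ), ∀ x ∈ Subgroup.upperCentralSeries G (i + 1), x ^ m ∈ Subgroup.upperCentralSeries G i := by
  intro i
  induction i with
  | zero =>
    intro x hx
    rw [Subgroup.upperCentralSeries_one] at hx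
    rw [Subgroup.upperCentralSeries_zero, Subgroup.mem_bot]
    exact hZ x hx
  | succ i ih =>
    intro x hx
    rw [Subgroup.mem_upperCentralSeries_succ_iff] at hx ⊢
    intro s
    set N := Subgroup.upperCentralSeries G i with hN
    let q := QuotientGroup.mk' N
    set c := x * s * x⁻¹ * s⁻¹ with hc
    have hc1 : c ∈ Subgroup.upperCentralSeries G (i + 1) := hx s
    have hcm : c ^ m ∈ N := ih c hc1
    have hcomm : Commute (q c) (q x) := by
      have h := Subgroup.mem_upperCentralSeries_succ_iff.1 hc1 x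
      have h1 : q (c * x * c⁻¹ * x⁻¹) = 1 := (QuotientGroup.eq_one_iff _).2 h
      simp only [map_mul, map_inv] at h1
      rw [mul_inv_eq_one, mul_inv_eq_iff_eq_mul] at h1
      exact h1
    have e : s * x * s⁻¹ = c⁻¹ * x := by rw [hc]; group
    have h1 : q (x ^ m * s * (x ^ m)⁻¹ * s⁻¹) = 1 := by
      have e2 : x ^ m * s * (x ^ m)⁻¹ * s⁻¹ = x ^ m * ((s * x * s⁻¹) ^ m)⁻¹ := by
        rw [conj_pow]; group
      rw [e2, e, map_mul, map_inv, map_pow, map_pow, map_mul, map_inv,
        hcomm.inv_left.mul_pow, inv_pow, ← map_pow q c, show q (c ^ m) = 1 from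
          (QuotientGroup.eq_one_iff _).2 hcm, inv_one, one_mul, mul_inv_cancel]
    exact (QuotientGroup.eq_one_iff _).1 h1

theorem pow_mul_eq_one {G : Type*} [Group G] {m : ℕ}
    (hZ : ∀ z ∈ Subgroup.center G, z ^ m = 1) :
    ∀ (i : ℕ), ∀ x ∈ Subgroup.upperCentralSeries G i, x ^ (m ^ i) = 1 := by
  intro i
  induction i with
  | zero =>
    intro x hx
    rw [Subgroup.upperCentralSeries_zero, Subgroup.mem_bot] at hx
    simp [hx]
  | succ i ih =>
    intro x hx
    rw [pow_succ', pow_mul]
    exact ih _ (pow_mem_upperCentralSeries hZ i x hx)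

theorem subgroupOf_lowerCentralSeries_le {G : Type*} [Group G] (S : Subgroup G) {c : ℕ}
    (h : S.lowerCentralSeries c = ⊥) :
    ∀ i, i ≤ c → (S.lowerCentralSeries (c - i)).subgroupOf S ≤ Subgroup.upperCentralSeries S i := by
  intro i
  induction i with
  | zero => intro _; simp [h]
  | succ i ih =>
    intro hi x hx
    rw [Subgroup.mem_upperCentralSeries_succ_iff]
    intro s
    refine ih (by omega) ?_
    rw [Subgroup.mem_subgroupOf, show c - i = (c - (i + 1)) + 1 by omega,
      Subgroup.lowerCentralSeries_succ]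
    exact Subgroup.commutator_mem_commutator hx s.2

end CfsgLib.FusionAgemo
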