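import Mathlib.RingTheory.Polynomial.Cyclotomic.Basic
import Mathlib.RingTheory.Nilpotent.Basic
import Mathlib.Algebra.Field.ZMod
import Mathlib.Algebra.Polynomial.AlgebraMap

/-!
# Unipotent endomorphisms of period `p`

In a ring, let `u ^ p = 1` and `(u - 1) ^ (n * (p - 1) + 1) = 0`. Then `p ^ n * (u - 1) = 0`.
-/

set_option autoImplicit false

namespace CfsgLib.FusionAgemo

open Polynomial

/-- `(X - 1) ^ (p - 1) = (1 + X + ⋯ + X ^ (p-1)) + p f` for some `f` with `f(1) = -1`. -/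
theorem exists_sub_one_pow_eq (p : ℕ) [hp : Fact p.Prime] :
    ∃ f : ℤ[X], (X - 1) ^ (p - 1) = (∑ i ∈ Finset.range p, X ^ i) + (p : ℤ[X]) * f ∧
      f.eval 1 = -1 := by
  have hmod : ((X - 1 : ℤ[X]) ^ (p - 1) - ∑ i ∈ Finset.range p, X ^ i).map
      (Int.castRingHom (ZMod p)) = 0 := by
    simp only [Polynomial.map_sub, Polynomial.map_pow, Polynomial.map_sum, map_X, Polynomial.map_one]
    refine sub_eq_zero.2 (mul_left_cancel₀ (X_sub_C_ne_zero (1 : ZMod p)) ?_)
    rw [map_one, ← pow_succ', Nat.sub_add_cancel hp.1.one_le, mul_geom_sum, sub_pow_char]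
    simp
  obtain ⟨f, hf⟩ : (C (p : ℤ)) ∣ (X - 1 : ℤ[X]) ^ (p - 1) - ∑ i ∈ Finset.range p, X ^ i := by
    rw [C_dvd_iff_dvd_coeff]
    intro i
    rw [← ZMod.intCast_zmod_eq_zero_iff_dvd]
    have h := congrArg (fun q => coeff q i) hmod
    simp only [coeff_map, coeff_zero, eq_intCast] at h
    exact h
  refine ⟨f, ?_, ?_⟩
  · rw [sub_eq_iff_eq_add'] at hf
    simpa using hf
  · have h1 := congrArg (Polynomial.eval 1) hf
    have hp1 : p - 1 ≠ 0 := by have := hp.1.two_le; omega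
    simp [eval_finsetSum, zero_pow hp1] at h1
    have hp0 : (p : ℤ) ≠ 0 := by exact_mod_cast hp.1.ne_zero
    have : (p : ℤ) * (f.eval 1 + 1) = 0 := by linarith
    rcases mul_eq_zero.1 this with h | h
    · exact absurd h hp0
    · linarith

/-- If `u ^ p = 1` and `(u - 1) ^ (n * (p - 1) + 1) = 0` then `p ^ n` annihilates `u - 1`. -/
theorem natCast_pow_mul_sub_one_eq_zero {R : Type*} [Ring R] (p : ℕ) [Fact p.Prime] (n : ℕ)
    (u : R) (hup : u ^ p = 1) (hn : (u - 1) ^ (n * (p - 1) + 1) = 0) :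
    (p : R) ^ n * (u - 1) = 0 := by
  obtain ⟨f, hf, hf1⟩ := exists_sub_one_pow_eq p
  set N : ℤ[X] := ∑ i ∈ Finset.range p, X ^ i with hN
  have hkey : ((p : ℤ[X]) * f) ^ n * (X - 1) - (X - 1) ^ (n * (p - 1) + 1) ∈
      Ideal.span ({X ^ p - 1} : Set ℤ[X]) := by
    rw [Ideal.mem_span_singleton, pow_succ, mul_comm n, pow_mul, hf, ← sub_mul]
    have h1 : X ^ p - 1 = (X - 1) * N := by rw [hN, mul_geom_sum]
    have h2 : N ∣ ((p : ℤ[X]) * f) ^ n - (N + (p : ℤ[X]) * f) ^ n := by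
      refine dvd_trans (Dvd.intro_left (-1) ?_) (sub_dvd_pow_sub_pow _ _ n)
      ring
    obtain ⟨q, hq⟩ := h2
    exact ⟨q, by rw [hq, h1]; ring⟩
  obtain ⟨q, hq⟩ := Ideal.mem_span_singleton.1 hkey
  have hev := congrArg (Polynomial.aeval u) hq
  simp only [map_sub, map_mul, map_pow, map_natCast, aeval_X, map_one, hup, sub_self, zero_mul,
    hn, sub_zero] at hev
  have hu : IsUnit (Polynomial.aeval u f) := by
    obtain ⟨g, hg⟩ : (X - C (1 : ℤ)) ∣ f - C (-1) := by
      rw [dvd_iff_isRoot]; simp [hf1]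
    have hfg : f = (X - 1) * g + -1 := by
      rw [sub_eq_iff_eq_add] at hg
      simpa using hg
    rw [hfg, map_add, map_neg, map_one, ← sub_eq_add_neg]
    refine IsNilpotent.isUnit_sub_one ⟨n * (p - 1) + 1, ?_⟩
    rw [map_mul, map_sub, aeval_X, map_one]
    have hc : Commute (u - 1) (Polynomial.aeval u g) := by
      have h : Commute u (Polynomial.aeval u g) := by
        simpa using (Polynomial.commute_X g).map (Polynomial.aeval u)
      exact h.sub_left (Commute.one_left _)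
    rw [hc.mul_pow, hn, zero_mul]
  have hcomm : Commute ((p : R) ^ n) ((Polynomial.aeval u f) ^ n) :=
    (Nat.cast_commute p _).pow_pow n n
  rw [((Nat.cast_commute p (Polynomial.aeval u f))).mul_pow, hcomm.eq, mul_assoc] at hev
  exact (hu.pow n).mul_right_eq_zero.1 hev

end CfsgLib.FusionAgemo
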